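import Mathlib
import Cfsg.Agent.GpExc.SL2

/-!
# Elements of odd prime order of `SL₂(K)`, any characteristic (helper486; task 2476 of helper718)

Generalisation of `GpExc.SL2` (helper75, characteristic two).

* `dg c` = `diag (c, c⁻¹)` as a product of elementary matrices;
* `exists_conj` : `g ∈ SL₂(K)` of odd prime order `p ≠ char K`, `K ∋` primitive `p`-th root of unity ⟹ `g` is
  conjugate to `dg c`, `c ^ p = 1`, `c ≠ 1`.
-/

set_option autoImplicit false

namespace Cfsg.Agent.H486.NB.SL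

open Matrix Cfsg.Agent.ChevalleyStructure.SL2Hom
open Cfsg.Agent.GpExc.SL2 (exists_root exists_col)

variable {K : Type*} [Field K]

/-- `diag (c, c⁻¹)` as a product of elementary matrices -/
def dg (c : K) : SpecialLinearGroup (Fin 2) K :=
  (up c * lo (-c⁻¹) * up c) * (up (-1) * lo (-(-1 : K)⁻¹) * up (-1))

theorem coe_dg {c : K} (hc : c ≠ 0) :
    ((dg c : SpecialLinearGroup (Fin 2) K) : Matrix (Fin 2) (Fin 2) K) = !![c, 0; 0, c⁻¹] := by
  show !![(1 : K), c; 0, 1] * !![1, 0; -c⁻¹, 1] * !![1, c; 0, 1] *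
    (!![1, -1; 0, 1] * !![1, 0; -(-1 : K)⁻¹, 1] * !![1, -1; 0, 1]) = !![c, 0; 0, c⁻¹]
  ext i j
  fin_cases i <;> fin_cases j <;>
    simp [Matrix.mul_apply, Fin.sum_univ_two, hc]

theorem up_nsmul (s : K) (n : ℕ) : (up s) ^ n = up (n * s) := by
  induction n with
  | zero =>
    rw [pow_zero]
    apply Subtype.ext
    ext i j
    fin_cases i <;> fin_cases j <;> simp [up]
  | succ n ih =>
    rw [pow_succ, ih]
    apply Subtype.ext
    show !![(1 : K), (n : K) * s; 0, 1] * !![1, s; 0, 1] = !![(1 : K), ((n + 1 : ℕ) : K) * s; 0, 1]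
    ext i j
    fin_cases i <;> fin_cases j <;> simp [Matrix.mul_apply, Fin.sum_univ_two]
    ring

/-- **Elements of odd prime order are diagonalizable.** -/
theorem exists_conj {p : ℕ} (hp : p.Prime) (hp2 : p ≠ 2) (hpK : (p : K) ≠ 0) {ζ : K} (hζ : IsPrimitiveRoot ζ p)
    {g : SpecialLinearGroup (Fin 2) K} (hg : g ^ p = 1) (hg1 : g ≠ 1) :
    ∃ (k : SpecialLinearGroup (Fin 2) K) (c : K), c ≠ 0 ∧ c ^ p = 1 ∧ c ≠ 1 ∧ k * g * k⁻¹ = dg c := by
  have hodd : Odd p := hp.odd_of_ne_two hp2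
  have hgm : (g : Matrix (Fin 2) (Fin 2) K) ^ p = 1 := by
    rw [← Matrix.SpecialLinearGroup.coe_pow, hg, Matrix.SpecialLinearGroup.coe_one]
  obtain ⟨c, hc, hdet⟩ := exists_root hp.pos hζ hgm
  have hc0 : c ≠ 0 := by
    rintro rfl
    rw [zero_pow hp.ne_zero] at hc
    exact zero_ne_one hc
  obtain ⟨v, hv, hgv⟩ := Matrix.exists_mulVec_eq_zero_iff.2 hdet
  have hgv' : (g : Matrix (Fin 2) (Fin 2) K) *ᵥ v = c • v := by
    rw [Matrix.sub_mulVec, Matrix.smul_mulVec, Matrix.one_mulVec, sub_eq_zero] at hgv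
    exact hgv
  obtain ⟨k, hk⟩ := exists_col hv
  -- `k⁻¹ g k` is upper triangular
  set m := k⁻¹ * g * k with hm
  have hkm : k * m = g * k := by rw [hm]; group
  have hcol : ∀ i, (k : Matrix (Fin 2) (Fin 2) K) i 0 * (m : Matrix (Fin 2) (Fin 2) K) 0 0 +
      (k : Matrix (Fin 2) (Fin 2) K) i 1 * (m : Matrix (Fin 2) (Fin 2) K) 1 0 = c * v i := by
    intro i
    have h3 := congrFun (congrFun (congrArg (fun z : SpecialLinearGroup (Fin 2) K => (z : Matrix (Fin 2) (Fin 2) K)) hkm)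
      i) 0
    simp only [Matrix.SpecialLinearGroup.coe_mul, Matrix.mul_apply, Fin.sum_univ_two] at h3
    rw [h3, hk 0, hk 1]
    have h4 := congrFun hgv' i
    rw [Matrix.mulVec, dotProduct, Fin.sum_univ_two] at h4
    simpa using h4
  have hdk : (k : Matrix (Fin 2) (Fin 2) K) 0 0 * (k : Matrix (Fin 2) (Fin 2) K) 1 1 -
      (k : Matrix (Fin 2) (Fin 2) K) 0 1 * (k : Matrix (Fin 2) (Fin 2) K) 1 0 = 1 := by
    rw [← Matrix.det_fin_two]; exact k.2
  have e0 := hcol 0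
  have e1 := hcol 1
  rw [← hk 0] at e0
  rw [← hk 1] at e1
  set k00 := (k : Matrix (Fin 2) (Fin 2) K) 0 0
  set k01 := (k : Matrix (Fin 2) (Fin 2) K) 0 1
  set k10 := (k : Matrix (Fin 2) (Fin 2) K) 1 0
  set k11 := (k : Matrix (Fin 2) (Fin 2) K) 1 1
  have m10 : (m : Matrix (Fin 2) (Fin 2) K) 1 0 = 0 := by
    linear_combination k00 * e1 - k10 * e0 - (m : Matrix (Fin 2) (Fin 2) K) 1 0 * hdk
  have m00 : (m : Matrix (Fin 2) (Fin 2) K) 0 0 = c := by
    linear_combination k11 * e0 - k01 * e1 - ((m : Matrix (Fin 2) (Fin 2) K) 0 0 - c) * hdk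
  have hdm : (m : Matrix (Fin 2) (Fin 2) K) 0 0 * (m : Matrix (Fin 2) (Fin 2) K) 1 1 -
      (m : Matrix (Fin 2) (Fin 2) K) 0 1 * (m : Matrix (Fin 2) (Fin 2) K) 1 0 = 1 := by
    rw [← Matrix.det_fin_two]; exact m.2
  have m11 : (m : Matrix (Fin 2) (Fin 2) K) 1 1 = c⁻¹ := by
    rw [m10, m00, mul_zero, sub_zero] at hdm
    exact eq_inv_of_mul_eq_one_right hdm
  set s := (m : Matrix (Fin 2) (Fin 2) K) 0 1 with hs
  have hmat : (m : Matrix (Fin 2) (Fin 2) K) = !![c, s; 0, c⁻¹] := by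
    ext i j
    fin_cases i <;> fin_cases j
    · exact m00
    · rfl
    · exact m10
    · exact m11
  have hmp : m ^ p = 1 := by
    have h3 : m = k⁻¹ * g * k⁻¹⁻¹ := by rw [hm, inv_inv]
    rw [h3, conj_pow, hg, mul_one, mul_inv_cancel]
  have hc2 : c ^ 2 = 1 → c = 1 := by
    intro h3
    obtain ⟨j, hj⟩ := hodd
    rw [hj, pow_succ, pow_mul, h3, one_pow, one_mul] at hc
    exact hc
  have hc1 : c ≠ 1 := by
    intro h3
    -- then `m = up s`, of order the characteristic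
    have h4 : m = up s := by
      apply Subtype.ext
      rw [hmat, h3, inv_one]
      rfl
    rw [h4, up_nsmul] at hmp
    have h5 := congrArg (fun z : SpecialLinearGroup (Fin 2) K => (z : Matrix (Fin 2) (Fin 2) K) 0 1) hmp
    have h6 : (p : K) * s = 0 := by
      simpa [up] using h5
    have h7 : s = 0 := (mul_eq_zero.1 h6).resolve_left hpK
    apply hg1
    have h8 : m = 1 := by
      rw [h4, h7]
      apply Subtype.ext
      ext i j
      fin_cases i <;> fin_cases j <;> simp [up]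
    have h9 : g = k * m * k⁻¹ := by rw [hm]; group
    rw [h9, h8]; group
  have hcc : c⁻¹ - c ≠ 0 := by
    intro h3
    apply hc1
    apply hc2
    rw [sub_eq_zero] at h3
    rw [pow_two]
    nth_rewrite 1 [← h3]
    exact inv_mul_cancel₀ hc0
  set t : K := -s / (c⁻¹ - c) with ht
  refine ⟨up t * k⁻¹, c, hc0, hc, hc1, ?_⟩
  have h3 : up t * k⁻¹ * g * (up t * k⁻¹)⁻¹ = up t * m * (up t)⁻¹ := by rw [hm]; group
  rw [h3, mul_inv_eq_iff_eq_mul]
  clear_value m
  apply Subtype.ext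
  have h4 : t * (c⁻¹ - c) = -s := by rw [ht]; exact div_mul_cancel₀ _ hcc
  have h5 : ((up t * m : SpecialLinearGroup (Fin 2) K) : Matrix (Fin 2) (Fin 2) K) =
      !![(1 : K), t; 0, 1] * !![c, s; 0, c⁻¹] := by
    rw [Matrix.SpecialLinearGroup.coe_mul, hmat]; rfl
  have h6 : ((dg c * up t : SpecialLinearGroup (Fin 2) K) : Matrix (Fin 2) (Fin 2) K) =
      !![c, 0; 0, c⁻¹] * !![1, t; 0, 1] := by
    rw [Matrix.SpecialLinearGroup.coe_mul, coe_dg hc0]; rfl
  refine h5.trans (Eq.trans ?_ h6.symm)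
  ext i j
  fin_cases i <;> fin_cases j
  · simp [Matrix.mul_apply, Fin.sum_univ_two]
  · simp only [Matrix.mul_apply, Fin.sum_univ_two]
    simp
    linear_combination h4
  · simp [Matrix.mul_apply, Fin.sum_univ_two]
  · simp [Matrix.mul_apply, Fin.sum_univ_two]

end Cfsg.Agent.H486.NB.SL
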