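import Mathlib
import Cfsg.Agent.GpExc.Tab
import Cfsg.Agent.H486.NB.SL

/-!
# Centralizers of elements of odd prime order in the `SL₂` of the highest root (helper486; task 2476 of helper718)

Generalisation of `GpExc.Cent`, `GpExc.Wit` (helper75) to every characteristic.

* `TD D f k r` : the table checks (`r` the highest root, `k` the node not orthogonal to `r`, `f` the other nodes);
* `conj_top` : `h_r(c) x_s(t) h_r(c)⁻¹ = x_s(c ^ (s_k) t)`;
* `norm_hG` : `C(h_r(c))` normalises `⟨X b : b_k = 0⟩`, if `c ^ m ≠ 1` for `m = 1, 2`;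
* `norm_psi` : for `g ∈ SL₂(F)` of odd prime order `p ≠ char F`, the centralizer of `ψ g`, `ψ : SL₂(F) → D.group F` the
  root `SL₂` of `r`, normalises `HL = ⟨X b : b_k = 0⟩`.
-/

set_option autoImplicit false
set_option linter.unusedSectionVars false

namespace Cfsg.Agent.H486.NB.Cent

open CoxeterSystem Subgroup
open Cfsg Cfsg.Lie Cfsg.Lie.ChevalleyDatum
open Cfsg.Agent.ChevalleyStructure Cfsg.Agent.ChevalleyStructure.Elts Cfsg.Agent.ChevalleyStructure.CoxeterGeom
  Cfsg.Agent.ChevalleyStructure.RootVec Cfsg.Agent.ChevalleyStructure.RootVecTab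
  Cfsg.Agent.ChevalleyStructure.CoxeterGeomTypes Cfsg.Agent.ChevalleyStructure.NPerm
  Cfsg.Agent.ChevalleyStructure.SL2Hom Cfsg.Agent.ChevalleyStructure.SL2Rep
open Cfsg.Agent.Tits.Roots Cfsg.Agent.Nodes.Reps Cfsg.Agent.Nodes.BNOf Cfsg.Agent.Nodes.RGDChev
  Cfsg.Agent.Nodes.Bruhat Cfsg.Agent.Nodes.SubComb Cfsg.Agent.Nodes.Sub
open Cfsg.Agent.KFacts.RgdPar
open Cfsg.Agent.KFacts.RgdChevCoord (TT XX nc)
open Cfsg.Agent.GenExc Cfsg.Agent.GpExc.Wit
open Cfsg.Agent.GenExc.Chev (mem_XX commOK)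
open Cfsg.Agent.GpExc

/-- the table checks -/
structure TD (D : ChevalleyDatum) {l m : ℕ} (f : Fin (m + 1) ↪ Fin l) (k : Fin l) (r : ℕ) : Prop where
  hk : ∀ i, i ∈ [k] ↔ ∀ a, f a ≠ i
  par : ∃ par : Fin (m + 1) → Fin (m + 1), ∀ b, b ≠ 0 → par b < b ∧ cartanOf D l (f (par b)) (f b) ≠ 0
  lt : r < D.nroots
  car : ∀ s < D.nroots, Strings.cartanR D r s = rt D s k
  uniq : ∀ s < D.nroots, rt D s k = 2 → s = r
  two : rt D r k = 2
  le : ∀ s < D.nroots, -2 ≤ rt D s k ∧ rt D s k ≤ 2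

section

variable {D : ChevalleyDatum} {l : ℕ} {M : CoxeterMatrix (Fin l)} (hp : IsType D l M)
  {m : ℕ} {f : Fin (m + 1) ↪ Fin l} {k : Fin l} {r : ℕ}

include hp in
theorem TD.conn (S : TD D f k r) : ∀ T : Set (Fin (m + 1)), T.Nonempty → T ≠ Set.univ →
    ∃ a ∈ T, ∃ b, b ∉ T ∧ M (f a) (f b) ≠ 2 := by
  obtain ⟨par, hpar⟩ := S.par
  exact GenExc.Chev.conn_of_parent (R := fun a b => M (f a) (f b) ≠ 2) (fun a b h => by rwa [M.symmetric]) par
    (fun b hb => ⟨(hpar b hb).1, GenExc.Chev.ne_two_of_cart hp.isCartan (hpar b hb).2⟩)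

include hp in
/-- `h_r(c)` acts on `X_s` as `c ^ (s_k)` -/
theorem TD.conj_top (S : TD D f k r) {K : Type*} [Field K] {c : K} (hc : c ≠ 0) {s : ℕ} (hs : s < D.nroots) (t : K) :
    hG hp.inList r c * xG hp.inList s t * (hG hp.inList r c)⁻¹ = xG hp.inList s (c ^ rt D s k * t) := by
  rw [mul_inv_eq_iff_eq_mul]
  apply Units.ext
  rw [Units.val_mul, Units.val_mul, coe_hG, coe_xG, coe_xG, StringMem.hMat_eq hp.inList S.lt hc]
  have h1 : Matrix.diagonal (Sum.elim (fun _ => (1 : K)) (fun s : Fin D.nroots => c ^ Strings.cartanR D r s)) =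
      TorusConj.torus D K (fun s => rt D s k) c := by
    rw [TorusConj.torus_def]
    congr 1
    funext v
    rcases v with i | s
    · rfl
    · show c ^ Strings.cartanR D r s = c ^ rt D s k
      rw [S.car _ s.2]
  rw [h1]
  exact TorusConj.torus_mul_x hp.checked (TorusConj.isAdditive_rt D (lt_rank hp k)) hc s t hs

variable {K : Type} [Field K]

/-- `h_r(c)` as an element of the group -/
noncomputable def hh (D : ChevalleyDatum) (K : Type) [Field K] (hp : InList D) (r : ℕ) (c : K) : ↥(D.group K) :=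
  ⟨hG hp r c, by
    rw [hG_def, nG_def, nG_def]
    exact mul_mem (mul_mem (xG_mem_group hp _ _) (mul_mem (xG_mem_group hp _ _) (xG_mem_group hp _ _)))
      (mul_mem (xG_mem_group hp _ _) (mul_mem (xG_mem_group hp _ _) (xG_mem_group hp _ _)))⟩

variable {W : Type*} [Group W] (cs : CoxeterSystem M W)

include hp in
theorem TD.norm_hG (S : TD D f k r) [Finite K] (p : ℕ) [Fact p.Prime] [CharP K p] {c : K} (hc0 : c ≠ 0) (hc1 : c ≠ 1)
    (hc2 : c ^ 2 ≠ 1) {g : ↥(D.group K)} (hg : g * hh D K hp.inList r c = hh D K hp.inList r c * g) :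
    ∀ u ∈ RGD.Sup (XX D l K) {b | IsRoot cs hp.isCartan b ∧ b k = 0}, g * u * g⁻¹ ∈
      RGD.Sup (XX D l K) {b | IsRoot cs hp.isCartan b ∧ b k = 0} := by
  have : Finite W := finite_W hp cs
  have hcm : ∀ m : ℤ, m ≠ 0 → -2 ≤ m → m ≤ 2 → c ^ m ≠ 1 := by
    intro m hm h3 h4
    have h5 : m = 1 ∨ m = -1 ∨ m = 2 ∨ m = -2 := by omega
    rcases h5 with rfl | rfl | rfl | rfl
    · rwa [zpow_one]
    · rw [zpow_neg, zpow_one]
      intro h6
      exact hc1 (inv_eq_one.1 h6)
    · exact_mod_cast hc2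
    · rw [zpow_neg]
      intro h6
      exact hc2 (by exact_mod_cast inv_eq_one.1 h6)
  refine GpExc.Cent.conj_mem_sup (rgd (K := K) hp cs p) (S := {hh D K hp.inList r c}) ?_ (fun x hx => hx.1) ?_ ?_
    (by rw [KFacts.RgdRigid.GG_eq_top (G1_eq_top hp cs)]; exact mem_top _)
    (by rw [mem_centralizer_singleton_iff]; exact hg)
  · rintro _ rfl
    rw [SetLike.mem_coe, mem_subgroupOf]
    exact hG_mem_diagonal hp.inList S.lt hc0
  · rintro x ⟨hx, hx0⟩ z hz
    obtain ⟨s, hs, rfl⟩ := (isRoot_iff hp cs x).1 hx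
    obtain ⟨t, ht⟩ := (mem_XX hp K hs).1 hz
    rw [mem_centralizer_singleton_iff]
    apply Subtype.ext
    rw [coe_mul, coe_mul, ht]
    have h1 := S.conj_top hp hc0 hs t
    have h2 : rt D s k = 0 := hx0
    rw [h2, zpow_zero, one_mul, mul_inv_eq_iff_eq_mul] at h1
    exact h1.symm
  · intro x hx hx0
    obtain ⟨s, hs, rfl⟩ := (isRoot_iff hp cs x).1 hx
    rw [eq_bot_iff]
    intro z hzz
    obtain ⟨hz, hz'⟩ := mem_inf.1 hzz
    obtain ⟨t, ht⟩ := (mem_XX hp K hs).1 hz
    rw [mem_centralizer_singleton_iff] at hz'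
    have h1 := S.conj_top hp hc0 hs t
    have h2 := congrArg Subtype.val hz'
    rw [coe_mul, coe_mul, ht] at h2
    change xG hp.inList s t * hG hp.inList r c = hG hp.inList r c * xG hp.inList s t at h2
    rw [← h2, mul_inv_cancel_right] at h1
    have h3 := xG_injective hp.inList hs h1
    rw [mem_bot]
    have hm : rt D s k ≠ 0 := fun h4 => hx0 ⟨hx, h4⟩
    have h5 := hcm _ hm (S.le s hs).1 (S.le s hs).2
    have h6 : t = 0 := by
      by_contra h7
      apply h5
      have h8 : (1 : K) * t = c ^ rt D s k * t := by rw [one_mul]; exact h3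
      exact (mul_right_cancel₀ h7 h8).symm
    apply Subtype.ext
    rw [ht, h6, xG_zero]
    rfl

include hp in
/-- the root groups of `r`, `-r` centralise `⟨X b : b_k = 0⟩` -/
theorem TD.comm_top (S : TD D f k r) {b : Fin l → ℤ} (hb : IsRoot cs hp.isCartan b) (hb0 : b k = 0)
    {z : ↥(D.group K)} (hz : z ∈ XX D l K b) {u : ↥(D.group K)}
    (hu : u ∈ XX D l K (vec D l r) ∨ u ∈ XX D l K (-vec D l r)) : z * u = u * z := by
  have : Finite W := finite_W hp cs
  have hr := isRoot_vec hp cs S.lt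
  have h2 : (vec D l r) k = 2 := S.two
  have key : ∀ y : Fin l → ℤ, IsRoot cs hp.isCartan y → y k = 2 → y = vec D l r := by
    intro y hy hyk
    obtain ⟨s, hs, rfl⟩ := (isRoot_iff hp cs y).1 hy
    rw [S.uniq s hs hyk]
  have hb00 : b ≠ 0 := by
    obtain ⟨s, hs, rfl⟩ := (isRoot_iff hp cs b).1 hb
    exact GenExc.vec_ne_zero hp hs
  rcases hu with hu | hu
  · refine commOK hp (K := K) cs b (vec D l r) hb hr ?_ ?_ z hz u hu
    · intro h3
      rw [h3, Pi.neg_apply, h2] at hb0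
      omega
    · intro h3
      have h4 := key _ h3 (by rw [Pi.add_apply, hb0, h2]; norm_num)
      exact hb00 (add_eq_right.1 h4)
  · refine commOK hp (K := K) cs b (-vec D l r) hb hr.neg ?_ ?_ z hz u hu
    · intro h3
      rw [_root_.neg_neg] at h3
      rw [h3, h2] at hb0
      omega
    · intro h3
      have h5 : -(b + -vec D l r) = vec D l r := key _ h3.neg (by
        rw [Pi.neg_apply, Pi.add_apply, Pi.neg_apply, hb0, h2]; norm_num)
      apply hb00
      have h6 : b = (b + -vec D l r) + vec D l r := by rw [neg_add_cancel_right]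
      rw [h6]
      nth_rewrite 2 [← h5]
      rw [add_neg_cancel]

/-! ### root `SL₂`s -/

/-- the root `SL₂` of the root `s` -/
noncomputable def ps (D : ChevalleyDatum) (K : Type) [Field K] (hD : InList D) {s : ℕ} (hs : s < D.nroots) :
    Matrix.SpecialLinearGroup (Fin 2) K →* ↥(D.group K) :=
  Rank.psi hD hs (RingHom.id K) (H := D.group K) (fun _ => xG_mem_group hD _ _) (fun _ => xG_mem_group hD _ _)

theorem coe_ps (hD : InList D) {s : ℕ} (hs : s < D.nroots) (g : Matrix.SpecialLinearGroup (Fin 2) K) :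
    ((ps D K hD hs g : ↥(D.group K)) : GL D.Idx K) = phi (SL2All.good_of_mem D hD s hs) K g := by
  unfold ps
  rw [Rank.coe_psi]
  congr 1

theorem ps_up (hD : InList D) {s : ℕ} (hs : s < D.nroots) (t : K) :
    ((ps D K hD hs (up t) : ↥(D.group K)) : GL D.Idx K) = xG hD s t := Rank.psi_up hD hs (RingHom.id K) _ _ t

theorem ps_lo (hD : InList D) {s : ℕ} (hs : s < D.nroots) (t : K) :
    ((ps D K hD hs (lo t) : ↥(D.group K)) : GL D.Idx K) = xG hD (D.neg s) t :=
  Rank.psi_lo hD hs (RingHom.id K) _ _ t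

theorem ps_dg (hD : InList D) {s : ℕ} (hs : s < D.nroots) (c : K) :
    ps D K hD hs (SL.dg c) = hh D K hD s c := by
  apply Subtype.ext
  show _ = hG hD s c
  rw [SL.dg, map_mul, map_mul, map_mul, map_mul, map_mul, coe_mul, coe_mul, coe_mul, coe_mul, coe_mul, ps_up, ps_lo,
    ps_up, ps_lo, hG_def, nG_def, nG_def]
  simp only [mul_assoc]

include hp in
theorem ps_mem {s : ℕ} (hs : s < D.nroots) {L : Subgroup ↥(D.group K)} (h1 : XX D l K (vec D l s) ≤ L)
    (h2 : XX D l K (-vec D l s) ≤ L) (g : Matrix.SpecialLinearGroup (Fin 2) K) : ps D K hp.inList hs g ∈ L := by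
  refine Rank.psi_mem hp.inList hs (RingHom.id K) _ _ ?_ ?_ g
  · intro t
    exact h1 ((mem_XX hp K hs).2 ⟨t, rfl⟩)
  · intro t
    apply h2
    rw [← vec_neg hp hs]
    exact (mem_XX hp K (neg_lt hp.checked hs)).2 ⟨t, rfl⟩

include hp in
/-- the `SL₂` of the highest root centralises `⟨X b : b_k = 0⟩` -/
theorem TD.ps_comm (S : TD D f k r) (g : Matrix.SpecialLinearGroup (Fin 2) K) :
    ∀ u ∈ RGD.Sup (XX D l K) {b | IsRoot cs hp.isCartan b ∧ b k = 0}, ps D K hp.inList S.lt g * u =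
      u * ps D K hp.inList S.lt g := by
  intro u hu
  have h1 : ps D K hp.inList S.lt g ∈ centralizer (RGD.Sup (XX D l K) {b | IsRoot cs hp.isCartan b ∧ b k = 0} :
      Set ↥(D.group K)) := by
    refine ps_mem hp S.lt ?_ ?_ g
    · intro z hz
      rw [mem_centralizer_iff]
      intro v hv
      have h2 : RGD.Sup (XX D l K) {b | IsRoot cs hp.isCartan b ∧ b k = 0} ≤ centralizer {z} :=
        RGD.Sup_le fun b hb v hv => by
          rw [mem_centralizer_singleton_iff]
          exact S.comm_top hp cs hb.1 hb.2 hv (Or.inl hz)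
      exact (mem_centralizer_singleton_iff.1 (h2 hv))
    · intro z hz
      rw [mem_centralizer_iff]
      intro v hv
      have h2 : RGD.Sup (XX D l K) {b | IsRoot cs hp.isCartan b ∧ b k = 0} ≤ centralizer {z} :=
        RGD.Sup_le fun b hb v hv => by
          rw [mem_centralizer_singleton_iff]
          exact S.comm_top hp cs hb.1 hb.2 hv (Or.inr hz)
      exact (mem_centralizer_singleton_iff.1 (h2 hv))
  exact ((mem_centralizer_iff.1 h1) u hu).symm

include hp in
/-- **The centraliser of an element of odd prime order of the `SL₂` of the highest root, over a splitting field.** -/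
theorem TD.norm_split (S : TD D f k r) [Finite K] (p₀ : ℕ) [Fact p₀.Prime] [CharP K p₀] {q : ℕ} (hq : q.Prime)
    (hq2 : q ≠ 2) (hqK : (q : K) ≠ 0) {ζ : K} (hζ : IsPrimitiveRoot ζ q) {g : Matrix.SpecialLinearGroup (Fin 2) K}
    (hg : g ^ q = 1) (hg1 : g ≠ 1) {y : ↥(D.group K)} (hy : y * ps D K hp.inList S.lt g = ps D K hp.inList S.lt g * y) :
    ∀ u ∈ RGD.Sup (XX D l K) {b | IsRoot cs hp.isCartan b ∧ b k = 0}, y * u * y⁻¹ ∈
      RGD.Sup (XX D l K) {b | IsRoot cs hp.isCartan b ∧ b k = 0} := by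
  obtain ⟨a, c, hc0, hcq, hc1, ha⟩ := SL.exists_conj hq hq2 hqK hζ hg hg1
  have hodd : Odd q := hq.odd_of_ne_two hq2
  have hc2 : c ^ 2 ≠ 1 := by
    intro h3
    obtain ⟨j, hj⟩ := hodd
    rw [hj, pow_succ, pow_mul, h3, one_pow, one_mul] at hcq
    exact hc1 hcq
  set ψ := ps D K hp.inList S.lt with hψ
  have h3 : ψ a * ψ g * (ψ a)⁻¹ = hh D K hp.inList r c := by
    rw [← ps_dg hp.inList S.lt, ← ha, map_mul, map_mul, map_inv]
  have h4 : (ψ a * y * (ψ a)⁻¹) * hh D K hp.inList r c = hh D K hp.inList r c * (ψ a * y * (ψ a)⁻¹) := by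
    rw [← h3]
    calc ψ a * y * (ψ a)⁻¹ * (ψ a * ψ g * (ψ a)⁻¹) = ψ a * (y * ψ g) * (ψ a)⁻¹ := by group
      _ = ψ a * (ψ g * y) * (ψ a)⁻¹ := by rw [hy]
      _ = _ := by group
  intro u hu
  have h5 := S.norm_hG hp cs p₀ hc0 hc1 hc2 h4 u hu
  have hku : (ψ a)⁻¹ * u * ψ a = u := by
    rw [mul_assoc, ← S.ps_comm hp cs a u hu, inv_mul_cancel_left]
  have h6 := S.ps_comm hp cs a _ h5
  have h7 : y * u * y⁻¹ = (ψ a)⁻¹ * (ψ a * y * (ψ a)⁻¹ * u * (ψ a * y * (ψ a)⁻¹)⁻¹) * ψ a := by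
    calc y * u * y⁻¹ = y * ((ψ a)⁻¹ * u * ψ a) * y⁻¹ := by rw [hku]
      _ = _ := by group
  rw [h7, mul_assoc, ← h6, inv_mul_cancel_left]
  exact h5

include hp in
/-- **The centraliser of an element of odd prime order of the `SL₂` of the highest root.** -/
theorem TD.norm_psi (S : TD D f k r) {F : Type} [Field F] [Finite F] (p₀ : ℕ) [Fact p₀.Prime] [CharP F p₀] {q : ℕ}
    (hq : q.Prime) (hq2 : q ≠ 2) (hqF : q ≠ p₀) {g : Matrix.SpecialLinearGroup (Fin 2) F}
    (hg : g ^ q = 1) (hg1 : g ≠ 1) {y : ↥(D.group F)} (hy : y * ps D F hp.inList S.lt g = ps D F hp.inList S.lt g * y) :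
    ∀ u ∈ HL cs hp.isCartan (XX D l F) f, y * u * y⁻¹ ∈ HL cs hp.isCartan (XX D l F) f := by
  have : Finite W := finite_W hp cs
  have hD := hp.inList
  -- the big field
  have hpF : (q : F) ≠ 0 := by
    intro h3
    exact hqF ((Nat.prime_dvd_prime_iff_eq Fact.out hq).1 ((CharP.cast_eq_zero_iff F p₀ q).1 h3)).symm
  have : NeZero (q : F) := ⟨hpF⟩
  have : NeZero q := ⟨hq.ne_zero⟩
  let K := CyclotomicField q F
  have hqK : (q : K) ≠ 0 := by
    intro h3
    apply hpF
    have h4 : algebraMap F K (q : F) = 0 := by rw [map_natCast]; exact h3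
    exact (map_eq_zero_iff _ (algebraMap F K).injective).1 h4
  have : NeZero (q : K) := ⟨hqK⟩
  obtain ⟨ζ, hζ⟩ : ∃ ζ : K, IsPrimitiveRoot ζ q := ⟨_, IsCyclotomicExtension.zeta_spec q F K⟩
  have : Module.Finite F K := IsCyclotomicExtension.finite_of_singleton q F K
  have hKfin : Finite K := Module.finite_of_finite F
  have hchK : CharP K p₀ := charP_of_injective_algebraMap (algebraMap F K).injective p₀
  -- the image of `g`
  set g' := Matrix.SpecialLinearGroup.map (algebraMap F K) g with hg'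
  have hx : Field.emb hD (algebraMap F K) (ps D F hD S.lt g) = ps D K hD S.lt g' := by
    apply Subtype.ext
    rw [Field.coe_emb, coe_ps, coe_ps]
    exact GpExc.Chev.glMap_phi hD S.lt (algebraMap F K) g
  have h1 : Field.emb hD (algebraMap F K) y * ps D K hD S.lt g' = ps D K hD S.lt g' *
      Field.emb hD (algebraMap F K) y := by rw [← hx, ← map_mul, ← map_mul, hy]
  have h3 := S.norm_split hp cs p₀ hq hq2 hqK hζ (g := g') (by rw [hg', ← map_pow, hg, map_one])
    (by
      intro h5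
      exact hg1 (Rank.map_injective (algebraMap F K) (by rw [← hg', h5, map_one]))) h1
  have hset : HL cs hp.isCartan (XX D l F) f = RGD.Sup (XX D l F) {a | IsRoot cs hp.isCartan a ∧ a k = 0} := by
    unfold HL
    congr 1
    ext b
    unfold LR
    refine and_congr_right fun _ => ?_
    constructor
    · intro h5
      exact h5 k fun a => (S.hk k).1 (List.mem_singleton.2 rfl) a
    · intro h5 i hi
      rw [List.mem_singleton.1 ((S.hk i).2 hi)]
      exact h5
  rw [hset]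
  refine Over.conj_mem (rgd (K := K) hp cs p₀) (rgd (K := F) hp cs p₀) (Field.comp hp (algebraMap F K) cs (ev k))
    (Field.comp hp (algebraMap F K) cs (-ev k)) (fun i => ?_) (KFacts.RgdRigid.GG_eq_top (G1_eq_top hp cs))
    (K := RGD.Sup (XX D l K) {b | IsRoot cs hp.isCartan b ∧ b k = 0}) ?_ ?_ ?_ h3
  · rw [ev_apply]
    exact sr_nonneg i k
  · exact RGD.Sup_le fun b hb => X_le_PS ⟨hb.1, by rw [ev_apply, hb.2]⟩
  · exact RGD.Sup_le fun b hb => X_le_PS ⟨hb.1, by rw [neg_ev_apply, hb.2, neg_zero]⟩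
  · intro a ha h5
    exact (Field.emb_X hp (algebraMap F K) cs ha).trans
      (RGD.le_Sup (X := fun x => (XV D l K x).subgroupOf (D.group K))
        (show a ∈ {b | IsRoot cs hp.isCartan b ∧ b k = 0} from ⟨ha, h5⟩))

end

end Cfsg.Agent.H486.NB.Cent
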