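import Mathlib
import Cfsg.Agent.H486.NB.Cent
import Cfsg.Agent.H718.NBIH
import Cfsg.Agent.H472.ComRed

/-!
# Exceptional groups have a non-principal `p`-block, `p` odd, `p ∣ q ^ 2 - 1` (helper486; task 2476 of helper718)

`x` of order `p` in the `SL₂` of the highest root; `C(x)` normalises the quasisimple group `HL = ⟨X b : b_k = 0⟩` of the
roots orthogonal to the highest root.
-/

set_option autoImplicit false
set_option linter.unusedSectionVars false

namespace Cfsg.Agent.H486.NB.Exc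

open CoxeterSystem Subgroup
open Cfsg Cfsg.Lie Cfsg.Lie.ChevalleyDatum
open Cfsg.Agent.ChevalleyStructure Cfsg.Agent.ChevalleyStructure.Elts Cfsg.Agent.ChevalleyStructure.CoxeterGeom
  Cfsg.Agent.ChevalleyStructure.RootVec Cfsg.Agent.ChevalleyStructure.RootVecTab
  Cfsg.Agent.ChevalleyStructure.CoxeterGeomTypes Cfsg.Agent.ChevalleyStructure.NPerm
  Cfsg.Agent.ChevalleyStructure.SL2Hom Cfsg.Agent.ChevalleyStructure.SL2Rep
open Cfsg.Agent.Tits.Roots Cfsg.Agent.Nodes.Reps Cfsg.Agent.Nodes.BNOf Cfsg.Agent.Nodes.RGDChev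
  Cfsg.Agent.Nodes.Bruhat Cfsg.Agent.Nodes.SubComb Cfsg.Agent.Nodes.Sub
open Cfsg.Agent.KFacts.RgdPar
open Cfsg.Agent.KFacts.RgdChevCoord (TT XX nc)
open Cfsg.Agent.GenExc
open Cfsg.Agent.GenExc.Chev (mem_XX commOK)
open Cfsg.Agent.GpExc
open Cfsg.Agent.H486.NB.Cent
open Cfsg.Agent.H7.NBp (NB)
open Cfsg.Agent.H718.NBIH (IH)
open scoped commutatorElement

theorem cent_zp {G : Type*} [Group G] (x : G) : centralizer (zpowers x : Set G) = centralizer ({x} : Set G) := by
  rw [zpowers_eq_closure, centralizer_closure]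

theorem quot_not_comm {L : Type*} [Group L] (h : IsQuasisimple L) : ¬ IsMulCommutative (L ⧸ center L) :=
  H472.ComRed.quot_not_comm h

section

variable {D : ChevalleyDatum} {l : ℕ} {M : CoxeterMatrix (Fin l)} (hp : IsType D l M)
  {m : ℕ} {f : Fin (m + 1) ↪ Fin l} {k : Fin l} {r : ℕ} {F : Type} [Field F]
  {W : Type*} [Group W] (cs : CoxeterSystem M W)

theorem dg_up {c : F} (hc : c ≠ 0) (t : F) : SL.dg c * up t * (SL.dg c)⁻¹ = up (c ^ 2 * t) := by
  rw [mul_inv_eq_iff_eq_mul]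
  apply Subtype.ext
  rw [Matrix.SpecialLinearGroup.coe_mul, Matrix.SpecialLinearGroup.coe_mul, SL.coe_dg hc]
  show !![c, 0; 0, c⁻¹] * !![(1 : F), t; 0, 1] = !![(1 : F), c ^ 2 * t; 0, 1] * !![c, 0; 0, c⁻¹]
  ext i j
  fin_cases i <;> fin_cases j <;> simp [Matrix.mul_apply, Fin.sum_univ_two]
  field_simp

theorem up_mul (s t : F) : up s * up t = up (s + t) := by
  apply Subtype.ext
  show !![(1 : F), s; 0, 1] * !![(1 : F), t; 0, 1] = !![(1 : F), s + t; 0, 1]
  ext i j
  fin_cases i <;> fin_cases j <;> simp [Matrix.mul_apply, Fin.sum_univ_two, add_comm]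

theorem up_inv (s : F) : (up s)⁻¹ = up (-s) := by
  rw [inv_eq_iff_mul_eq_one, up_mul, add_neg_cancel]
  apply Subtype.ext
  ext i j
  fin_cases i <;> fin_cases j <;> simp [up]

include hp in
/-- perfectness, `q ≥ 4` -/
theorem perf_tor {c : F} (hc : c ≠ 0) (hc2 : c ^ 2 ≠ 1) (f : Fin (m + 1) ↪ Fin l) :
    ∀ x ∈ LR cs hp.isCartan f, XX D l F x ≤
      ⁅HL cs hp.isCartan (XX D l F) f, HL cs hp.isCartan (XX D l F) f⁆ := by
  intro x hx u hu
  obtain ⟨s, hs, rfl⟩ := (isRoot_iff hp cs x).1 hx.1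
  obtain ⟨t, ht⟩ := (mem_XX hp F hs).1 hu
  have h1 : c ^ 2 - 1 ≠ 0 := sub_ne_zero.2 hc2
  have hm : ∀ g, ps D F hp.inList hs g ∈ HL cs hp.isCartan (XX D l F) f :=
    ps_mem hp hs (X_le_HL f hx) (X_le_HL f (LR_neg f hx))
  have h3 : u = ⁅ps D F hp.inList hs (SL.dg c), ps D F hp.inList hs (up (t / (c ^ 2 - 1)))⁆ := by
    rw [← map_commutatorElement, commutatorElement_def, dg_up hc, up_inv, up_mul]
    apply Subtype.ext
    rw [ht, ps_up]
    congr 1
    field_simp
    ring
  rw [h3]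
  exact Subgroup.commutator_mem_commutator (hm _) (hm _)

/-- an element `c` with `c² ≠ 1` -/
theorem exists_sq_ne [Fintype F] (h : 4 ≤ Fintype.card F) : ∃ c : F, c ≠ 0 ∧ c ^ 2 ≠ 1 := by
  classical
  by_contra hcon
  push Not at hcon
  have h5 : (Finset.univ : Finset F) ⊆ {0, 1, -1} := by
    intro c _
    rw [Finset.mem_insert, Finset.mem_insert, Finset.mem_singleton]
    by_cases hc : c = 0
    · exact Or.inl hc
    · exact Or.inr (mul_self_eq_one_iff.1 (by rw [← pow_two]; exact hcon c hc))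
  have h6 := Finset.card_le_card h5
  rw [Finset.card_univ] at h6
  have h7 : ({0, 1, -1} : Finset F).card ≤ 3 := Finset.card_le_three
  omega

include hp in
/-- **The reduction.** -/
theorem nb_of_td (S : TD D f k r) [Fintype F] {p : ℕ} [Fact p.Prime] (hp2 : p ≠ 2)
    (hpq : p ∣ Fintype.card F ^ 2 - 1) [IsSimpleGroup ↥(D.group F)] (ih : IH p (Nat.card ↥(D.group F)))
    (hperf : ∀ x ∈ LR cs hp.isCartan f, XX D l F x ≤
      ⁅HL cs hp.isCartan (XX D l F) f, HL cs hp.isCartan (XX D l F) f⁆) : NB p ↥(D.group F) := by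
  classical
  have hpp : p.Prime := Fact.out
  obtain ⟨p₀, hpr, hcp⟩ : ∃ p₀ : ℕ, p₀.Prime ∧ CharP F p₀ := by
    obtain ⟨p₀, hcp⟩ := CharP.exists F
    exact ⟨p₀, CharP.char_is_prime F p₀, hcp⟩
  have : Fact p₀.Prime := ⟨hpr⟩
  have : Finite W := finite_W hp cs
  have hfin : Finite ↥(D.group F) := inferInstance
  have hne : p ≠ p₀ := by
    rintro rfl
    have h1 : p ∣ Fintype.card F := (CharP.cast_eq_zero_iff F p _).1 (by simp)
    have h2 : p ∣ Fintype.card F ^ 2 := dvd_pow h1 two_ne_zero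
    have h3 : 1 < Fintype.card F := Fintype.one_lt_card
    have h4 : 1 ≤ Fintype.card F ^ 2 := Nat.one_le_pow _ _ (by omega)
    have h5 : p ∣ 1 := by
      have := (Nat.dvd_sub_iff_right h4 h2).1 hpq
      exact this
    exact hpp.one_lt.ne' (Nat.dvd_one.1 h5)
  obtain ⟨g, hg⟩ := OutOf.exists_order (F := F) hpp hpq
  have hgp : g ^ p = 1 := by rw [← hg]; exact pow_orderOf_eq_one g
  have hg1 : g ≠ 1 := by
    rintro rfl
    rw [orderOf_one] at hg
    exact hpp.one_lt.ne' hg.symm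
  set ψ := ps D F hp.inList S.lt with hψ
  set L := HL cs hp.isCartan (XX D l F) f with hL
  have hset : L = RGD.Sup (XX D l F) {a | IsRoot cs hp.isCartan a ∧ a k = 0} := by
    rw [hL]
    unfold HL
    congr 1
    ext b
    unfold LR
    refine and_congr_right fun _ => ?_
    constructor
    · intro h5
      exact h5 k fun a => (S.hk k).1 (List.mem_singleton.2 rfl) a
    · intro h5 i hi
      rw [List.mem_singleton.1 ((S.hk i).2 hi)]
      exact h5
  have hcomm : ∀ g, ∀ u ∈ L, ψ g * u = u * ψ g := by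
    rw [hset]
    exact fun g => S.ps_comm hp cs g
  -- the component
  have hqs : IsQuasisimple ↥L := isQuasisimple_HL f (rgd (K := F) hp cs p₀) (fun j => GenExc.Chev.nc_mem hp F cs f j)
    (S.conn hp) (GenExc.Chev.diag_comm hp F) hperf
  have hLne : L ≠ ⊤ := by
    intro htop
    have h1 : ψ (up 1) ∈ center ↥(D.group F) := by
      rw [mem_center_iff]
      intro y
      exact (hcomm _ y (htop ▸ mem_top y)).symm
    have h2 : center ↥(D.group F) = ⊥ := by
      rcases (inferInstance : (center ↥(D.group F)).Normal).eq_bot_or_eq_top with h3 | h3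
      · exact h3
      · exfalso
        apply quot_not_comm hqs
        have h4 : ∀ a b : ↥(D.group F), a * b = b * a := fun a b => (mem_center_iff.1 (h3 ▸ mem_top a) b).symm
        refine ⟨⟨?_⟩⟩
        rintro ⟨a⟩ ⟨b⟩
        exact congrArg _ (Subtype.ext (h4 a b))
    rw [h2, mem_bot] at h1
    have h3 : xG hp.inList r (1 : F) = xG hp.inList r 0 := by
      rw [← ps_up hp.inList S.lt, ← hψ, h1, xG_zero]
      rfl
    exact one_ne_zero (xG_injective hp.inList S.lt h3)
  have hcard : Nat.card (↥L ⧸ center ↥L) < Nat.card ↥(D.group F) := by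
    refine lt_of_le_of_lt (Nat.card_le_card_of_surjective _ (QuotientGroup.mk'_surjective (center ↥L))) ?_
    exact lt_of_le_of_ne (Subgroup.card_le_card_group L) fun h => hLne (Subgroup.eq_top_of_card_eq L h)
  have : IsSimpleGroup (↥L ⧸ center ↥L) := hqs.2
  have hnb : NB p (↥L ⧸ center ↥L) :=
    ih.use (quot_not_comm hqs) hcard
  -- the `p`-subgroup
  have hQ : IsPGroup p (zpowers (ψ g)) := by
    rw [IsPGroup.iff_card]
    rw [Nat.card_zpowers]
    exact (Nat.dvd_prime_pow hpp).1 (by rw [pow_one]; exact orderOf_dvd_of_pow_eq_one (by rw [← map_pow, hgp, map_one])) |>.imp fun _ h => h.2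
  refine H7.NBp.NB.of_cover (zpowers (ψ g)) hQ L ?_ ?_ (QuotientGroup.mk' (center ↥L))
    (QuotientGroup.mk'_surjective _) (by rw [QuotientGroup.ker_mk']) hnb
  · intro u hu
    rw [cent_zp, mem_centralizer_singleton_iff]
    exact (hcomm g u hu).symm
  · intro y hy
    rw [cent_zp, mem_centralizer_singleton_iff] at hy
    exact S.norm_psi hp cs p₀ hpp hp2 hne hgp hg1 hy

end

end Cfsg.Agent.H486.NB.Exc
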