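import Mathlib
import Cfsg.Agent.H486.NB.Exc

/-!
# `G₂(q)`, `F₄(q)`, `E₆(q)`, `E₇(q)`, `E₈(q)` have a non-principal `p`-block, `p` odd, `p ∣ q ^ 2 - 1`
(helper486; task 2476 of helper718)
-/

set_option autoImplicit false
set_option linter.unusedSectionVars false

namespace Cfsg.Agent.H486.NB.Rows

open CoxeterSystem Cfsg.Agent.ChevalleyStructure.CoxeterGeom Cfsg.Agent.Tits.Roots Cfsg.Agent.Tits.Core
  Cfsg.Agent.Tits.RootComb Cfsg.Agent.Nodes.Comb Cfsg.Agent.Nodes.Coroot Cfsg.Agent.Nodes.Reps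
  Cfsg.Agent.Nodes.BNOf Cfsg.Agent.Nodes.SubComb Cfsg.Agent.Nodes.Sub Cfsg.Agent.GenExc
  Cfsg.Agent.KFacts.ChevTwo Cfsg.Agent.GpExc.Perf
open scoped commutatorElement

section perf

variable {I W Y K : Type*} [Fintype I] [DecidableEq I] [Group W] [Group Y] [Field K] {M : CoxeterMatrix I}
  {cs : CoxeterSystem M W} {A : I → I → ℤ} {h : IsCartan M A} {e : (I → ℤ) → K → Y}
  {p : ℕ} {T : Subgroup Y} {n : I → Y} {X : (I → ℤ) → Subgroup Y}
  {J : Type*} [Fintype J] [DecidableEq J] (f : J ↪ I)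

variable [Finite W] {R : RGD cs h p T n X} (S : Sys R e)

include S

/-- two roots of the same length -/
theorem perf_one {j j' : J} (h1 : A (f j) (f j') = -1) (h2 : A (f j') (f j) = -1) :
    X (sr (f j)) ≤ ⁅HL cs h X f, HL cs h X f⁆ := by
  intro u hu
  obtain ⟨t, rfl⟩ := (S.mem_X _ (isRoot_sr cs h _) u).1 hu
  set a : I → ℤ := sr (f j) with ha
  set b : I → ℤ := sr (f j') with hb
  have hra : IsRoot cs h a := isRoot_sr cs h _
  have hrb : IsRoot cs h b := isRoot_sr cs h _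
  have pab : cpr cs h a b = -1 := by rw [hb, cpr_sr, ha, pair_sr, h2]
  have pba : cpr cs h b a = -1 := by rw [ha, cpr_sr, hb, pair_sr, h1]
  have hx : IsRoot cs h (a + b) := by
    have h3 := isRoot_refl cs h hra hrb
    rwa [pab, neg_one_smul, sub_neg_eq_add] at h3
  have hxL : a + b ∈ LR cs h f := by
    refine ⟨hx, fun k hk => ?_⟩
    rw [Pi.add_apply, ha, hb, sr_ne (hk j).symm, sr_ne (hk j').symm, add_zero]
  have e1 : cpr cs h (a + b) (-b) = -1 := by
    rw [cpr_neg_right cs h _ hrb, cpr_add cs h _ _ hrb, pab, cpr_self cs h hrb]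
    norm_num
  have e2 : cpr cs h (-b) (a + b) = -1 := by
    have h3 : rep cs h (cs.simple (f j')) a = a + b := by
      rw [rep_simple_eq, ← cpr_sr cs h, ← hb, pab, neg_one_smul, sub_neg_eq_add]
    have h4 : rep cs h (cs.simple (f j')) b = -b := by rw [hb, rep_simple_sr]
    rw [← h4, ← h3, cpr_rep cs h _ _ hra, pba]
  have h5 := S.data.comm1 (a + b) (-b) hx hrb.neg e1 e2 t 1
  rw [add_neg_cancel_right, mul_one] at h5
  rw [← h5]
  exact Subgroup.commutator_mem_commutator (e_mem f S hxL _) (e_mem f S (LR_neg f (sr_mem_LR f j')) _)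

/-- `j` short, `j'` long -/
theorem perf_two {j j' : J} (h1 : A (f j) (f j') = -2) (h2 : A (f j') (f j) = -1)
    (hs : X (sr (f j)) ≤ ⁅HL cs h X f, HL cs h X f⁆) : X (sr (f j')) ≤ ⁅HL cs h X f, HL cs h X f⁆ := by
  intro u hu
  obtain ⟨t, rfl⟩ := (S.mem_X _ (isRoot_sr cs h _) u).1 hu
  set a : I → ℤ := sr (f j) with ha
  set b : I → ℤ := sr (f j') with hb
  have hra : IsRoot cs h a := isRoot_sr cs h _
  have hrb : IsRoot cs h b := isRoot_sr cs h _
  have pba : cpr cs h b a = -2 := by rw [ha, cpr_sr, hb, pair_sr, h1]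
  have pab : cpr cs h a b = -1 := by rw [hb, cpr_sr, ha, pair_sr, h2]
  -- `x = b + 2 a`, `y = -a`
  have h3 : rep cs h (cs.simple (f j)) b = b + 2 • a := by
    rw [rep_simple_eq, ← cpr_sr cs h, ← ha, pba]
    rw [sub_eq_add_neg, ← neg_smul, _root_.neg_neg]
    rfl
  have h4 : rep cs h (cs.simple (f j)) a = -a := by rw [ha, rep_simple_sr]
  have h5 : rep cs h (cs.simple (f j')) a = a + b := by
    rw [rep_simple_eq, ← cpr_sr cs h, ← hb, pab, neg_one_smul, sub_neg_eq_add]
  have hx : IsRoot cs h (b + 2 • a) := by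
    rw [← h3]
    exact hrb.act _
  have hxy : IsRoot cs h (a + b) := by
    rw [← h5]
    exact hra.act _
  have hxL : b + 2 • a ∈ LR cs h f := by
    refine ⟨hx, fun k hk => ?_⟩
    rw [Pi.add_apply, Pi.smul_apply, ha, hb, sr_ne (hk j).symm, sr_ne (hk j').symm, smul_zero, add_zero]
  have e1 : cpr cs h (b + 2 • a) (-a) = -2 := by
    rw [← h3, ← h4, cpr_rep cs h _ _ hra, pba]
  have e2 : cpr cs h (-a) (b + 2 • a) = -1 := by
    rw [← h3, ← h4, cpr_rep cs h _ _ hrb, pab]
  have h6 := S.data.comm2 (b + 2 • a) (-a) hx hra.neg e1 e2 t 1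
  have e3 : b + 2 • a + -a = a + b := by rw [two_smul]; abel
  have e4 : b + 2 • a + (2 : ℤ) • -a = b := by rw [two_smul, two_smul]; abel
  rw [e3, e4, mul_one, one_pow, mul_one] at h6
  -- `e (a + b) t`
  have h7 : e (a + b) t ∈ ⁅HL cs h X f, HL cs h X f⁆ := by
    have hn : n (f j') ∈ HL cs h X f := n_mem f S j'
    have h8 := S.data.refl (f j') a hra t
    rw [← S.n_eq, h5] at h8
    rw [← h8]
    have h9 : e a t ∈ ⁅HL cs h X f, HL cs h X f⁆ := hs (S.mem hra t)
    have h10 : n (f j') * e a t * (n (f j'))⁻¹ = ⁅n (f j'), e a t⁆ * e a t := by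
      rw [commutatorElement_def]; group
    rw [h10]
    exact mul_mem (Subgroup.commutator_mem_commutator hn (e_mem f S (sr_mem_LR f j) t)) h9
  have h8 : e b t = (e (a + b) t)⁻¹ * ⁅e (b + 2 • a) t, e (-a) 1⁆ := by
    rw [h6, inv_mul_cancel_left]
  rw [h8]
  exact mul_mem (inv_mem h7) (Subgroup.commutator_mem_commutator (e_mem f S hxL _)
    (e_mem f S (LR_neg f (sr_mem_LR f j)) _))

end perf

open Cfsg Cfsg.Lie Cfsg.Lie.ChevalleyDatum
open Cfsg.Agent.ChevalleyStructure Cfsg.Agent.ChevalleyStructure.RootVec Cfsg.Agent.ChevalleyStructure.RootVecTab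
  Cfsg.Agent.ChevalleyStructure.CoxeterGeomTypes
open Cfsg.Agent.Nodes.RGDChev
open Cfsg.Agent.KFacts.RgdChevCoord (TT XX nc)
open Cfsg.Agent.KFacts.ChevTwoInst (eg sys TwoOK twoOK_F4 twoOK_E6 twoOK_E7 twoOK_E8)
open Cfsg.Agent.H486.NB.Cent Cfsg.Agent.H486.NB.Exc
open Cfsg.Agent.H7.NBp (NB)
open Cfsg.Agent.H718.NBIH (IH)
open Cfsg.Agent.GpExc.Chev (eF4 eE6 eE7 eE8 isTy_F4 isTy_E6 isTy_E7 isTy_E8 datF4 datE6 datE7 datE8)

theorem isTy_G2 : IsType chevG2 2 CoxeterMatrix.G₂ := by simp [IsType, typeList]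

def eG2 : Fin 1 ↪ Fin 2 := ⟨![0], by decide⟩

theorem tdG2 : TD chevG2 (m := 0) eG2 1 11 where
  hk := by decide
  par := ⟨![0], by decide +kernel⟩
  lt := by decide +kernel
  car := by decide +kernel
  uniq := by decide +kernel
  two := by decide +kernel
  le := by decide +kernel

theorem tdF4 : TD chevF4 (m := 2) eF4 3 47 where
  hk := datF4.hk
  par := datF4.par
  lt := by decide +kernel
  car := by decide +kernel
  uniq := by decide +kernel
  two := by decide +kernel
  le := by decide +kernel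

theorem tdE6 : TD chevE6 (m := 4) eE6 1 71 where
  hk := datE6.hk
  par := datE6.par
  lt := by decide +kernel
  car := by decide +kernel
  uniq := by decide +kernel
  two := by decide +kernel
  le := by decide +kernel

theorem car7a : ∀ s < 63, Strings.cartanR chevE7 125 s = rt chevE7 s (0 : Fin 7) := by decide +kernel

theorem car7b : ∀ s < 63, Strings.cartanR chevE7 125 (63 + s) = rt chevE7 (63 + s) (0 : Fin 7) := by decide +kernel

theorem car7 : ∀ s < chevE7.nroots, Strings.cartanR chevE7 125 s = rt chevE7 s (0 : Fin 7) := by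
  intro s hs
  have hs' : s < 126 := hs
  rcases Nat.lt_or_ge s 63 with h | h
  · exact car7a s h
  · obtain ⟨t, rfl⟩ := Nat.exists_eq_add_of_le h
    exact car7b t (by omega)

theorem tdE7 : TD chevE7 (m := 5) eE7 0 125 where
  hk := datE7.hk
  par := datE7.par
  lt := by decide +kernel
  car := car7
  uniq := by decide +kernel
  two := by decide +kernel
  le := by decide +kernel

theorem car8_0 : ∀ s < 40, Strings.cartanR chevE8 239 s = rt chevE8 s (7 : Fin 8) := by decide +kernel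

theorem car8_1 : ∀ s < 40, Strings.cartanR chevE8 239 (40 + s) = rt chevE8 (40 + s) (7 : Fin 8) := by
  decide +kernel

theorem car8_2 : ∀ s < 40, Strings.cartanR chevE8 239 (80 + s) = rt chevE8 (80 + s) (7 : Fin 8) := by
  decide +kernel

theorem car8_3 : ∀ s < 40, Strings.cartanR chevE8 239 (120 + s) = rt chevE8 (120 + s) (7 : Fin 8) := by
  decide +kernel

theorem car8_4 : ∀ s < 40, Strings.cartanR chevE8 239 (160 + s) = rt chevE8 (160 + s) (7 : Fin 8) := by
  decide +kernel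

theorem car8_5 : ∀ s < 40, Strings.cartanR chevE8 239 (200 + s) = rt chevE8 (200 + s) (7 : Fin 8) := by
  decide +kernel

theorem car8 : ∀ s < chevE8.nroots, Strings.cartanR chevE8 239 s = rt chevE8 s (7 : Fin 8) := by
  intro s hs
  have hs' : s < 240 := hs
  rcases Nat.lt_or_ge s 40 with h | h
  · exact car8_0 s h
  rcases Nat.lt_or_ge s 80 with h1 | h1
  · obtain ⟨t, rfl⟩ := Nat.exists_eq_add_of_le h
    exact car8_1 t (by omega)
  rcases Nat.lt_or_ge s 120 with h2 | h2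
  · obtain ⟨t, rfl⟩ := Nat.exists_eq_add_of_le h1
    exact car8_2 t (by omega)
  rcases Nat.lt_or_ge s 160 with h3 | h3
  · obtain ⟨t, rfl⟩ := Nat.exists_eq_add_of_le h2
    exact car8_3 t (by omega)
  rcases Nat.lt_or_ge s 200 with h4 | h4
  · obtain ⟨t, rfl⟩ := Nat.exists_eq_add_of_le h3
    exact car8_4 t (by omega)
  · obtain ⟨t, rfl⟩ := Nat.exists_eq_add_of_le h4
    exact car8_5 t (by omega)

theorem tdE8 : TD chevE8 (m := 6) eE8 7 239 where
  hk := datE8.hk
  par := datE8.par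
  lt := by decide +kernel
  car := car8
  uniq := by decide +kernel
  two := by decide +kernel
  le := by decide +kernel

section rows

variable {D : ChevalleyDatum} {l : ℕ} {M : CoxeterMatrix (Fin l)} (hp : IsType D l M)
  {m : ℕ} {f : Fin (m + 1) ↪ Fin l} {k : Fin l} {r : ℕ} {F : Type} [Field F] [Fintype F]

include hp in
/-- the rows, `q ≥ 4` -/
theorem nb_ge (S : TD D f k r) {p : ℕ} [Fact p.Prime] (hp2 : p ≠ 2) (hq : 4 ≤ Fintype.card F)
    (hpq : p ∣ Fintype.card F ^ 2 - 1) [IsSimpleGroup ↥(D.group F)] (ih : IH p (Nat.card ↥(D.group F))) :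
    NB p ↥(D.group F) := by
  obtain ⟨c, hc, hc2⟩ := exists_sq_ne (F := F) hq
  exact nb_of_td hp M.toCoxeterSystem S hp2 hpq ih (perf_tor hp M.toCoxeterSystem hc hc2 f)

/-- `q ≥ 4` or `q = 2` -/
theorem ge_or {p : ℕ} [hp : Fact p.Prime] (hp2 : p ≠ 2) (hpq : p ∣ Fintype.card F ^ 2 - 1) :
    4 ≤ Fintype.card F ∨ Fintype.card F = 2 := by
  have h1 : 1 < Fintype.card F := Fintype.one_lt_card
  by_contra hcon
  push Not at hcon
  have h2 : Fintype.card F = 3 := by omega
  rw [h2] at hpq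
  have h3 : p ∣ 2 ^ 3 := by norm_num at hpq ⊢; exact hpq
  exact hp2 ((Nat.prime_dvd_prime_iff_eq hp.out Nat.prime_two).1 (hp.out.dvd_of_dvd_pow h3))

theorem two_eq_zero_of_card (h : Fintype.card F = 2) : (2 : F) = 0 := by
  have h1 : ((Fintype.card F : ℕ) : F) = 0 := by simp
  rw [h] at h1
  exact_mod_cast h1

include hp in
/-- the rows, type `E` -/
theorem nb_lace (S : TD D f k r) (hOK : TwoOK D)
    (hj : ∀ j, ∃ j', cartanOf D l (f j) (f j') = -1 ∧ cartanOf D l (f j') (f j) = -1)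
    {p : ℕ} [Fact p.Prime] (hp2 : p ≠ 2)
    (hpq : p ∣ Fintype.card F ^ 2 - 1) [IsSimpleGroup ↥(D.group F)] (ih : IH p (Nat.card ↥(D.group F))) :
    NB p ↥(D.group F) := by
  rcases ge_or (F := F) hp2 hpq with hq | hq
  · exact nb_ge hp S hp2 hq hpq ih
  · have h2 := two_eq_zero_of_card hq
    let cs : CoxeterSystem M M.Group := M.toCoxeterSystem
    have : Finite M.Group := finite_W hp cs
    have hchF : CharP F 2 := CharTwo.of_one_ne_zero_of_two_eq_zero one_ne_zero h2
    have hsys : Sys (rgd (K := F) hp cs 2) (eg hp F) := sys hp hOK cs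
    exact nb_of_td hp cs S hp2 hpq ih (perf_lace f hsys hj)

end rows

section F

variable {F : Type} [Field F] [Fintype F] {p : ℕ} [Fact p.Prime] (hp2 : p ≠ 2) (hpq : p ∣ Fintype.card F ^ 2 - 1)

include hp2 hpq

theorem g2 (h3 : 3 ≤ Fintype.card F) [IsSimpleGroup ↥(chevG2.group F)] (ih : IH p (Nat.card ↥(chevG2.group F))) :
    NB p ↥(chevG2.group F) := by
  rcases ge_or (F := F) hp2 hpq with hq | hq
  · exact nb_ge isTy_G2 tdG2 hp2 hq hpq ih
  · omega

theorem f4 [IsSimpleGroup ↥(chevF4.group F)] (ih : IH p (Nat.card ↥(chevF4.group F))) :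
    NB p ↥(chevF4.group F) := by
  rcases ge_or (F := F) hp2 hpq with hq | hq
  · exact nb_ge isTy_F4 tdF4 hp2 hq hpq ih
  · have h2 := two_eq_zero_of_card hq
    let cs : CoxeterSystem CoxeterMatrix.F₄ CoxeterMatrix.F₄.Group := CoxeterMatrix.F₄.toCoxeterSystem
    have : Finite CoxeterMatrix.F₄.Group := finite_W isTy_F4 cs
    have hchF : CharP F 2 := CharTwo.of_one_ne_zero_of_two_eq_zero one_ne_zero h2
    have hsys : Sys (rgd (K := F) isTy_F4 cs 2) (eg isTy_F4 F) := sys isTy_F4 twoOK_F4 cs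
    have h0 := perf_one eF4 hsys (j := 0) (j' := 1) (by decide +kernel) (by decide +kernel)
    have h1 := perf_one eF4 hsys (j := 1) (j' := 0) (by decide +kernel) (by decide +kernel)
    have h2' := perf_two eF4 hsys (j := 1) (j' := 2) (by decide +kernel) (by decide +kernel) h1
    refine nb_of_td isTy_F4 cs tdF4 hp2 hpq ih (GpExc.Levi.perf_of_simple eF4 (rgd (K := F) isTy_F4 cs 2)
      (fun j => Cfsg.Agent.GpExc.Perf.n_mem eF4 hsys j) ?_)
    intro j
    fin_cases j
    · exact h0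
    · exact h1
    · exact h2'

theorem e6 [IsSimpleGroup ↥(chevE6.group F)] (ih : IH p (Nat.card ↥(chevE6.group F))) :
    NB p ↥(chevE6.group F) :=
  nb_lace isTy_E6 tdE6 twoOK_E6 (by decide +kernel) hp2 hpq ih

theorem e7 [IsSimpleGroup ↥(chevE7.group F)] (ih : IH p (Nat.card ↥(chevE7.group F))) :
    NB p ↥(chevE7.group F) :=
  nb_lace isTy_E7 tdE7 twoOK_E7 (by decide +kernel) hp2 hpq ih

theorem e8 [IsSimpleGroup ↥(chevE8.group F)] (ih : IH p (Nat.card ↥(chevE8.group F))) :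
    NB p ↥(chevE8.group F) :=
  nb_lace isTy_E8 tdE8 twoOK_E8 (by decide +kernel) hp2 hpq ih

end F

section S

variable {p : ℕ} [Fact p.Prime] (h2 : p ≠ 2) (S : Type) [Group S] [Finite S] [IsSimpleGroup S]
  {F : Type} [Field F] [Fintype F] (hp : p ∣ Fintype.card F ^ 2 - 1)
  (ih : IH p (Nat.card S))

include h2 hp ih

/-- transport to an isomorphic group -/
theorem transp {D : ChevalleyDatum} (e : Nonempty (S ≃* ↥(D.group F)))
    (h : ∀ [IsSimpleGroup ↥(D.group F)], IH p (Nat.card ↥(D.group F)) → NB p ↥(D.group F)) : NB p S := by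
  obtain ⟨e⟩ := e
  have : Nontrivial ↥(D.group F) := e.symm.toEquiv.nontrivial
  have hs : IsSimpleGroup ↥(D.group F) := IsSimpleGroup.isSimpleGroup_of_surjective e.toMonoidHom e.surjective
  exact H7.NBp.NB.iso e.symm (h (by rwa [← Nat.card_congr e.toEquiv]))

theorem nb_g2_tor (h3 : 3 ≤ Fintype.card F) (e : Nonempty (S ≃* ↥(chevG2.group F))) : NB p S :=
  transp h2 S hp ih e fun ih => g2 h2 hp h3 ih

theorem nb_f4_tor (e : Nonempty (S ≃* ↥(chevF4.group F))) : NB p S :=
  transp h2 S hp ih e fun ih => f4 h2 hp ih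

theorem nb_e6_tor (e : Nonempty (S ≃* ↥(chevE6.group F))) : NB p S :=
  transp h2 S hp ih e fun ih => e6 h2 hp ih

theorem nb_e7_tor (e : Nonempty (S ≃* ↥(chevE7.group F))) : NB p S :=
  transp h2 S hp ih e fun ih => e7 h2 hp ih

theorem nb_e8_tor (e : Nonempty (S ≃* ↥(chevE8.group F))) : NB p S :=
  transp h2 S hp ih e fun ih => e8 h2 hp ih

end S

end Cfsg.Agent.H486.NB.Rows
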